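import Groth.Agent.H02CA.SerreGor.Pairing
import Groth.Agent.H02CA.FMConv.Gor
import Groth.Prelude.Def_KLin2

/-!
# The Serre functor `- ⊗ ω`
-/

set_option autoImplicit false
set_option linter.style.haveILetI false
set_option linter.unusedSectionVars false
set_option backward.isDefEq.respectTransparency false
set_option maxHeartbeats 1000000

universe u

open CategoryTheory CategoryTheory.Limits AlgebraicGeometry

attribute [local instance] HasDerivedCategory.standard

noncomputable section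

namespace Groth.Agent.H02CA.SerreGor

open Groth.Agent.H16Derived Groth.Agent.H16Derived.Dual

variable {X : Scheme.{u}} {ω : DCoh.D X}

/-- `- ⊗ ω` on the perfect objects. -/
def twistF (hω : DCoh.IsPerfect ω) : (SGA6.perfP X).FullSubcategory ⥤ (SGA6.perfP X).FullSubcategory :=
  ObjectProperty.lift _ (ObjectProperty.ι (SGA6.perfP X) ⋙ (T X).flip.obj ω)
    fun K => FMConv.isPerfect_T' K.property hω

/-- The tensor product with invertible objects cancels. -/
def cancelIso (a b : DCoh.D X) (e : ((T X).obj a).obj b ≅ one X) : (T X).flip.obj a ⋙ (T X).flip.obj b ≅ 𝟭 _ :=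
  flipAssoc a b ≪≫ (T X).flip.mapIso e ≪≫ rightUnit X

/-- `- ⊗ ω` is an autoequivalence of the perfect objects. -/
def twistEquiv (hω : DCoh.IsPerfect ω) (e : ((T X).obj ω).obj (ro ω) ≅ one X) :
    (SGA6.perfP X).FullSubcategory ≌ (SGA6.perfP X).FullSubcategory :=
  CategoryTheory.Equivalence.mk (twistF hω) (twistF (isPerfect_ro hω))
    (NatIso.ofComponents (F := twistF hω ⋙ twistF (isPerfect_ro hω)) (G := 𝟭 _)
      (fun K => (SGA6.perfP X).isoMk ((cancelIso ω (ro ω) e).app K.obj))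
      (fun {K L} (f : K ⟶ L) => ObjectProperty.hom_ext _ ((cancelIso ω (ro ω) e).hom.naturality f.hom))).symm
    (NatIso.ofComponents (F := twistF (isPerfect_ro hω) ⋙ twistF hω) (G := 𝟭 _)
      (fun K => (SGA6.perfP X).isoMk ((cancelIso (ro ω) ω (σ _ _ ≪≫ e)).app K.obj))
      (fun {K L} (f : K ⟶ L) => ObjectProperty.hom_ext _ ((cancelIso (ro ω) ω (σ _ _ ≪≫ e)).hom.naturality f.hom)))

variable {k : Type u} [Field k] [X.Over (Spec (.of k))]

/-- The Serre functor. -/
theorem exists_serreFunctor (hω : DCoh.IsPerfect ω) (e : ((T X).obj ω).obj (ro ω) ≅ one X)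
    (t : (one X ⟶ ω) →ₗ[k] k)
    (h₁ : ∀ E : DCoh.D X, DCoh.IsPerfect E → ∀ x : E ⟶ ω, x ≠ 0 → ∃ y : one X ⟶ E, t (y ≫ x) ≠ 0)
    (h₂ : ∀ E : DCoh.D X, DCoh.IsPerfect E → ∀ y : one X ⟶ E, y ≠ 0 → ∃ x : E ⟶ ω, t (y ≫ x) ≠ 0)
    (hfin : ∀ A B : DCoh.D X, DCoh.IsPerfect A → DCoh.IsPerfect B → Module.Finite k (A ⟶ B)) :
    ∃ s : KLin.SerreFunctor k (SGA6.perfP X).FullSubcategory,
      Nonempty (s.S.functor ⋙ ObjectProperty.ι (SGA6.perfP X) ≅ ObjectProperty.ι (SGA6.perfP X) ⋙ (T X).flip.obj ω) := by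
  let lin : ∀ A B : (SGA6.perfP X).FullSubcategory, (A ⟶ B) ≃ₗ[k] (A.obj ⟶ B.obj) := fun A B =>
    LinearEquiv.ofBijective ((SGA6.perfP X).ι.mapLinearMap k)
      ⟨fun a b h => (SGA6.perfP X).ι.map_injective h, fun g => ⟨ObjectProperty.homMk g, rfl⟩⟩
  let b : ∀ K L : (SGA6.perfP X).FullSubcategory,
      (K.obj ⟶ L.obj) ≃ₗ[k] Module.Dual k (L.obj ⟶ ((T X).obj K.obj).obj ω) := fun K L =>
    haveI := hfin K.obj L.obj K.property L.property
    haveI := hfin L.obj _ L.property (FMConv.isPerfect_T' K.property hω)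
    LinearEquiv.ofBijective (pairing ω t K.property L.obj)
      (bijective_pairing ω t h₁ h₂ K.property (FMConv.isPerfect_T' L.property (isPerfect_ro K.property)))
  refine ⟨{ S := twistEquiv hω e
            linear := ⟨fun {A B} (f : A ⟶ B) r => ObjectProperty.hom_ext _ (ExtFin.T_map_smul' k f.hom ω r)⟩
            homIso := fun K L => (lin K L).trans ((b K L).trans (lin L ((twistF hω).obj K)).dualMap)
            homIso_comp := fun {K L L'} f g h => ?_
            homIso_precomp := fun {K' K L} a f h => ?_ }, ⟨Iso.refl _⟩⟩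
  · exact congrArg (τ ω t K.property) (Category.assoc f.hom g.hom h.hom)
  · show τ ω t K'.property ((a.hom ≫ f.hom) ≫ h.hom) =
      τ ω t K.property (f.hom ≫ h.hom ≫ ((T X).map a.hom).app ω)
    rw [Category.assoc, τ_cyclic ω t K.property K'.property, Category.assoc]

end Groth.Agent.H02CA.SerreGor
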