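import Groth.Agent.H02CA.SerreGor.Trace
import Groth.Agent.H02CA.PerfRep.DualEquiv

/-!
# The trace pairing of perfect objects
-/

set_option autoImplicit false
set_option linter.style.haveILetI false
set_option linter.unusedSectionVars false
set_option backward.isDefEq.respectTransparency false
set_option maxHeartbeats 1000000

universe u

open CategoryTheory CategoryTheory.Limits AlgebraicGeometry

attribute [local instance] HasDerivedCategory.standard

noncomputable section

namespace Groth.Agent.H02CA.SerreGor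

open Groth.Agent.H16Derived Groth.Agent.H16Derived.Dual Groth.Agent.H02CA.PerfRep

variable {X : Scheme.{u}}

/-- `O ⊗ m ≅ m`. -/
def lu (m : DCoh.D X) : ((T X).obj (one X)).obj m ≅ m := σ (one X) m ≪≫ (rightUnit X).app m

theorem lu_naturality {m m' : DCoh.D X} (f : m ⟶ m') :
    ((T X).obj (one X)).map f ≫ (lu m').hom = (lu m).hom ≫ f := by
  simp only [lu, Iso.trans_hom, Category.assoc]
  rw [σ_naturality_right_assoc]
  exact congrArg ((σ (one X) m).hom ≫ ·) ((rightUnit X).hom.naturality f)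

theorem αc_naturality (k : DCoh.D X) {m m' : DCoh.D X} (f : m ⟶ m') :
    ((T X).map (((T X).map f).app (ro k))).app k ≫ αc k m' = αc k m ≫ f := by
  simp only [αc, Category.assoc]
  rw [α_naturality_left_assoc]
  refine congrArg ((α m (ro k) k).hom ≫ ·) ?_
  rw [← NatTrans.naturality_assoc]
  exact congrArg (((T X).obj m).map (ev k) ≫ ·) ((rightUnit X).hom.naturality f)

theorem th_comp {g g' m k : DCoh.D X} (u : g' ⟶ g) (x : g ⟶ ((T X).obj m).obj (ro k)) :
    th g' m k (u ≫ x) = ((T X).map u).app k ≫ th g m k x := by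
  show ((T X).map (u ≫ x)).app k ≫ _ = _
  rw [Functor.map_comp, NatTrans.comp_app, Category.assoc]
  rfl

theorem th_map {g m m' k : DCoh.D X} (f : m ⟶ m') (x : g ⟶ ((T X).obj m).obj (ro k)) :
    th g m' k (x ≫ ((T X).map f).app (ro k)) = th g m k x ≫ f := by
  show ((T X).map (x ≫ _)).app k ≫ _ = (((T X).map x).app k ≫ _) ≫ _
  rw [Functor.map_comp, NatTrans.comp_app, Category.assoc, αc_naturality, Category.assoc]

theorem bijective_th (g m : DCoh.D X) {k : DCoh.D X} (hk : DCoh.IsPerfect k) : Function.Bijective (th g m k) := by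
  haveI := isIso_θ hk m
  have h : ⇑(th g m k) = ((adjR k).homEquiv g m).symm ∘ fun x => x ≫ θ k m := funext fun x => th_eq g m k x
  rw [h]
  exact ((adjR k).homEquiv g m).symm.bijective.comp
    ⟨fun x y hxy => (cancel_mono (θ k m)).1 hxy, fun z => ⟨z ≫ inv (θ k m), by simp⟩⟩

/-- The coevaluation. -/
def coev {k : DCoh.D X} (hk : DCoh.IsPerfect k) : one X ⟶ ((T X).obj k).obj (ro k) :=
  (Equiv.ofBijective _ (bijective_th (one X) k hk)).symm (lu k).hom

theorem th_coev {k : DCoh.D X} (hk : DCoh.IsPerfect k) : th (one X) k k (coev hk) = (lu k).hom :=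
  (Equiv.ofBijective _ (bijective_th (one X) k hk)).apply_symm_apply _

theorem th_coev_comp {k L : DCoh.D X} (hk : DCoh.IsPerfect k) (f : k ⟶ L) :
    th (one X) L k (coev hk ≫ ((T X).map f).app (ro k)) = (lu k).hom ≫ f := by
  rw [th_map, th_coev]

theorem bijective_name {k : DCoh.D X} (hk : DCoh.IsPerfect k) (L : DCoh.D X) :
    Function.Bijective fun f : k ⟶ L => coev hk ≫ ((T X).map f).app (ro k) := by
  refine ⟨fun f f' h => ?_, fun y => ?_⟩
  · rw [← cancel_epi (lu k).hom, ← th_coev_comp hk, ← th_coev_comp hk]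
    exact congrArg _ h
  · refine ⟨(lu k).inv ≫ th (one X) L k y, (bijective_th (one X) L hk).1 ?_⟩
    rw [th_coev_comp, Iso.hom_inv_id_assoc]

theorem coev_dinatural {k k' : DCoh.D X} (hk : DCoh.IsPerfect k) (hk' : DCoh.IsPerfect k') (e : k' ⟶ k) :
    coev hk ≫ ((T X).obj k).map (rmap e) = coev hk' ≫ ((T X).map e).app (ro k') := by
  refine (bijective_th (one X) k hk').1 ?_
  rw [th_naturality, th_coev, th_coev_comp, lu_naturality]

variable (ω : DCoh.D X)

/-- The contraction `(k ⊗ ω) ⊗ k^∨ ⟶ ω`. -/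
def cc (k : DCoh.D X) : ((T X).obj (((T X).obj k).obj ω)).obj (ro k) ⟶ ω :=
  th _ ω (ro k) ((σ k ω).hom ≫ ((T X).obj ω).map (w k))

theorem cc_dinatural {k k' : DCoh.D X} (e : k' ⟶ k) :
    ((T X).map (((T X).map e).app ω)).app (ro k) ≫ cc ω k =
      ((T X).obj (((T X).obj k').obj ω)).map (rmap e) ≫ cc ω k' := by
  simp only [cc]
  rw [← th_comp, ← th_naturality, σ_naturality_left_assoc, ← Functor.map_comp, w_naturality, Functor.map_comp,
    Category.assoc]

theorem bijective_cc {k : DCoh.D X} (hk : DCoh.IsPerfect k) (L : DCoh.D X) :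
    Function.Bijective fun h : L ⟶ ((T X).obj k).obj ω => ((T X).map h).app (ro k) ≫ cc ω k := by
  haveI := isIso_w hk
  have h : (fun h : L ⟶ ((T X).obj k).obj ω => ((T X).map h).app (ro k) ≫ cc ω k) =
      (fun x => th L ω (ro k) x) ∘ fun h => h ≫ (σ k ω).hom ≫ ((T X).obj ω).map (w k) := by
    funext h
    exact (th_comp h _).symm
  rw [h]
  exact (bijective_th L ω (isPerfect_ro hk)).comp
    ⟨fun x y hxy => (cancel_mono ((σ k ω).hom ≫ ((T X).obj ω).map (w k))).1 hxy,
      fun z => ⟨z ≫ inv ((σ k ω).hom ≫ ((T X).obj ω).map (w k)), by simp⟩⟩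

variable {k₀ : Type u} [Field k₀] [X.Over (Spec (.of k₀))] (t : (one X ⟶ ω) →ₗ[k₀] k₀)

/-- The trace of an endomorphism twisted by `ω`. -/
def τ {k : DCoh.D X} (hk : DCoh.IsPerfect k) : (k ⟶ ((T X).obj k).obj ω) →ₗ[k₀] k₀ where
  toFun m := t (coev hk ≫ ((T X).map m).app (ro k) ≫ cc ω k)
  map_add' m m' := by
    rw [← map_add]
    refine congrArg t ?_
    change _ ≫ ((T X).flip.obj (ro k)).map (m + m') ≫ _ = _
    rw [Functor.map_add, Preadditive.add_comp, Preadditive.comp_add]
    rfl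
  map_smul' r m := by
    rw [RingHom.id_apply, ← map_smul]
    refine congrArg t ?_
    rw [ExtFin.T_map_smul', Linear.smul_comp, Linear.comp_smul]

/-- The trace is cyclic. -/
theorem τ_cyclic {k k' : DCoh.D X} (hk : DCoh.IsPerfect k) (hk' : DCoh.IsPerfect k') (e : k' ⟶ k)
    (m : k ⟶ ((T X).obj k').obj ω) :
    τ ω t hk' (e ≫ m) = τ ω t hk (m ≫ ((T X).map e).app ω) := by
  refine congrArg t ?_
  rw [Functor.map_comp, NatTrans.comp_app, Category.assoc, ← Category.assoc (coev hk'), ← coev_dinatural hk hk',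
    Category.assoc, Functor.map_comp, NatTrans.comp_app, Category.assoc, cc_dinatural, NatTrans.naturality_assoc]

theorem τ_comp_eq {k L : DCoh.D X} (hk : DCoh.IsPerfect k) (f : k ⟶ L) (h : L ⟶ ((T X).obj k).obj ω) :
    τ ω t hk (f ≫ h) = t ((coev hk ≫ ((T X).map f).app (ro k)) ≫ ((T X).map h).app (ro k) ≫ cc ω k) := by
  refine congrArg t ?_
  rw [Functor.map_comp, NatTrans.comp_app, Category.assoc, Category.assoc]

/-- The pairing of maps. -/
def pairing {k : DCoh.D X} (hk : DCoh.IsPerfect k) (L : DCoh.D X) :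
    (k ⟶ L) →ₗ[k₀] Module.Dual k₀ (L ⟶ ((T X).obj k).obj ω) :=
  LinearMap.mk₂ k₀ (fun f h => τ ω t hk (f ≫ h)) (fun f f' h => by rw [Preadditive.add_comp, map_add])
    (fun r f h => by rw [Linear.smul_comp, map_smul]) (fun f h h' => by rw [Preadditive.comp_add, map_add])
    (fun r f h => by rw [Linear.comp_smul, map_smul])

theorem bijective_pairing
    (h₁ : ∀ E : DCoh.D X, DCoh.IsPerfect E → ∀ x : E ⟶ ω, x ≠ 0 → ∃ y : one X ⟶ E, t (y ≫ x) ≠ 0)
    (h₂ : ∀ E : DCoh.D X, DCoh.IsPerfect E → ∀ y : one X ⟶ E, y ≠ 0 → ∃ x : E ⟶ ω, t (y ≫ x) ≠ 0)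
    {k L : DCoh.D X} (hk : DCoh.IsPerfect k) (hT : DCoh.IsPerfect (((T X).obj L).obj (ro k)))
    [Module.Finite k₀ (k ⟶ L)] [Module.Finite k₀ (L ⟶ ((T X).obj k).obj ω)] :
    Function.Bijective (pairing ω t hk L) := by
  have i₁ : Function.Injective (pairing ω t hk L) := by
    refine (injective_iff_map_eq_zero _).2 fun f hf => by_contra fun hf0 => ?_
    obtain ⟨x, hx⟩ := h₂ _ hT (coev hk ≫ ((T X).map f).app (ro k)) fun h => hf0 ((bijective_name hk L).1 (by
      simp only [h]
      rw [show ((T X).map (0 : k ⟶ L)).app (ro k) = 0 from ((T X).flip.obj (ro k)).map_zero _ _, comp_zero]))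
    obtain ⟨g, rfl⟩ := (bijective_cc ω hk L).2 x
    exact hx ((τ_comp_eq ω t hk f g).symm.trans (LinearMap.congr_fun hf g))
  have i₂ : Function.Injective (pairing ω t hk L).flip := by
    refine (injective_iff_map_eq_zero _).2 fun g hg => by_contra fun hg0 => ?_
    obtain ⟨y, hy⟩ := h₁ _ hT (((T X).map g).app (ro k) ≫ cc ω k) fun h => hg0 ((bijective_cc ω hk L).1 (by
      simp only [h]
      rw [show ((T X).map (0 : L ⟶ ((T X).obj k).obj ω)).app (ro k) = 0 from ((T X).flip.obj (ro k)).map_zero _ _,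
        zero_comp]))
    obtain ⟨f, rfl⟩ := (bijective_name hk L).2 y
    exact hy ((τ_comp_eq ω t hk f g).symm.trans (LinearMap.congr_fun hg f))
  refine ⟨i₁, (LinearMap.injective_iff_surjective_of_finrank_eq_finrank ?_).1 i₁⟩
  rw [Subspace.dual_finrank_eq]
  refine le_antisymm ?_ ?_
  · exact (LinearMap.finrank_le_finrank_of_injective i₁).trans Subspace.dual_finrank_eq.le
  · exact (LinearMap.finrank_le_finrank_of_injective i₂).trans Subspace.dual_finrank_eq.le

end Groth.Agent.H02CA.SerreGor
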