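import Groth.Agent.H02CA.PerfRep.Adjoints
import Groth.Agent.H02CA.PnDetect.Proj
import Groth.Agent.H02CA.Serre.Basic
import Groth.Agent.H4RSH.SerreDual
import Groth.Agent.H4RepDual.Bridge
import Groth.Agent.H16Derived.ExtFin.Linear
import Groth.Agent.LeadBrown.OneHom

/-!
# The trace of a proper scheme over a field
-/

set_option autoImplicit false
set_option linter.style.haveILetI false
set_option linter.unusedSectionVars false
set_option backward.isDefEq.respectTransparency false
set_option synthInstance.maxHeartbeats 400000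
set_option maxHeartbeats 1000000

universe u

open CategoryTheory CategoryTheory.Limits AlgebraicGeometry

attribute [local instance] HasDerivedCategory.standard

noncomputable section

namespace Groth.Agent.H02CA.SerreGor

open Groth.Agent.H16Derived Groth.Agent.H16Derived.KFlat Groth.Agent.H16Derived.KFlat.Stalk
open Groth.Agent.H4RepDual

variable {k : Type u} [Field k]

theorem over_self : (Spec (CommRingCat.of k)) ↘ (Spec (CommRingCat.of k)) = 𝟙 _ := by
  rw [specOverSpec_over, Algebra.algebraMap_self]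
  exact Spec.map_id _

/-- Endomorphisms of `O[0]` on the spectrum of a field. -/
theorem bijective_scalar :
    Function.Bijective fun a : k => a • 𝟙 (DCoh.inD (Spec (.of k)) (Coh.structureModule (Spec (.of k)))) := by
  let S := Spec (CommRingCat.of k)
  have key : ∀ a : k, a • 𝟙 (DCoh.inD S (Coh.structureModule S)) =
      (DerivedCategory.singleFunctor S.Modules 0).map (Groth.Agent.H17.ExtRegVanish.mulEnd (rhoS k a) _) := fun a => by
    rw [show Groth.Agent.H17.ExtRegVanish.mulEnd (rhoS k a) (Coh.structureModule S) =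
        a • 𝟙 (Coh.structureModule S) from (by
        rw [KLin.smul_id]
        refine Scheme.Modules.hom_ext _ _ fun U => ?_
        ext m
        show Groth.Agent.H17.ExtRegVanish.res U (rhoS k a) • m =
          Groth.Agent.H17.ExtRegVanish.res U (Coh.toGlobal (S ↘ S) a) • m
        rw [show Coh.toGlobal (S ↘ S) a = rhoS k a by simp [Coh.toGlobal, rhoS, S, over_self]; rfl]),
      Functor.map_smul, CategoryTheory.Functor.map_id]
  rw [funext key]
  refine Function.Bijective.comp (f := fun a : k => rhoS k a)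
    (g := fun c => (DerivedCategory.singleFunctor S.Modules 0).map (Groth.Agent.H17.ExtRegVanish.mulEnd c _)) ?_
    (Scheme.ΓSpecIso (CommRingCat.of k)).symm.commRingCatIsoToRingEquiv.bijective
  refine ⟨fun c c' h => ?_, fun φ => ?_⟩
  · have := congrArg (fun g => g.app ⊤ (H11Ample.one ⊤)) ((DerivedCategory.singleFunctor S.Modules 0).map_injective h)
    simp only at this
    rwa [LeadBrown.mulEnd_one_apply, LeadBrown.mulEnd_one_apply] at this
  · obtain ⟨g, rfl⟩ := (DerivedCategory.singleFunctor S.Modules 0).map_surjective φ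
    obtain ⟨c, rfl⟩ := LeadBrown.exists_mulEnd g
    exact ⟨c, rfl⟩

/-- `End(O[0]) = k`. -/
def scalarEquiv : k ≃ₗ[k]
    (DCoh.inD (Spec (.of k)) (Coh.structureModule (Spec (.of k))) ⟶
      DCoh.inD (Spec (.of k)) (Coh.structureModule (Spec (.of k)))) :=
  LinearEquiv.ofBijective (LinearMap.toSpanSingleton k _ (𝟙 _)) bijective_scalar

/-- A map to `O[0]` on the spectrum of a field is detected by the maps out of `O[0]`, and conversely. -/
theorem exists_pair_ne_zero {M : DCoh.D (Spec (.of k))} (hM : DCoh.IsQCohD M) :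
    (∀ v : M ⟶ DCoh.inD (Spec (.of k)) (Coh.structureModule (Spec (.of k))), v ≠ 0 →
      ∃ w : DCoh.inD (Spec (.of k)) (Coh.structureModule (Spec (.of k))) ⟶ M, w ≫ v ≠ 0) ∧
    (∀ w : DCoh.inD (Spec (.of k)) (Coh.structureModule (Spec (.of k))) ⟶ M, w ≠ 0 →
      ∃ v : M ⟶ DCoh.inD (Spec (.of k)) (Coh.structureModule (Spec (.of k))), w ≫ v ≠ 0) := by
  haveI := QCohD.preservesFiniteLimits_tilde_of k
  haveI := (QCohD.full_faithful (CommRingCat.of k)).1
  haveI := (QCohD.full_faithful (CommRingCat.of k)).2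
  haveI : PreservesFiniteColimits (tilde.functor (CommRingCat.of k)) :=
    @PreservesColimitsOfSize.preservesFiniteColimits.{0, 0} _ _ _ _ (tilde.functor (CommRingCat.of k))
      ((tilde.adjunction (R := CommRingCat.of k)).leftAdjoint_preservesColimits)
  haveI := H4RSH.SerreDual.injective_self k
  obtain ⟨R, ⟨e⟩⟩ := QCohD.exists_tildeD_iso (R := CommRingCat.of k) hM
  let T := DCoh.tildeD (CommRingCat.of k)
  let u := tildeUnit (A := k)
  have h2 := H4RSH.bijective_map_homology_injective (ModuleCat.of k k) R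
  constructor
  · intro v hv
    let v' : R ⟶ Dual.inD k k := T.preimage (e.hom ≫ v ≫ u.inv)
    have hv' : v' ≠ 0 := fun h => hv (by
      have := congrArg T.map h
      rw [T.map_preimage, T.map_zero] at this
      rwa [← cancel_epi e.hom, ← cancel_mono u.inv, comp_zero, zero_comp, Category.assoc])
    obtain ⟨m, hm⟩ : ∃ m, Groth.Agent.H4DR.PCoh.hm 0 v' m ≠ 0 := by
      by_contra hcon
      push Not at hcon
      exact hv' (h2.1 (ModuleCat.hom_ext (LinearMap.ext fun m => (hcon m).trans (by simp [Functor.map_zero]))))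
    obtain ⟨w', hw⟩ := (Groth.Agent.H4DR.Ext.bijective_evalOne R).2 m
    refine ⟨u.inv ≫ T.map w' ≫ e.hom, fun h => hm ?_⟩
    have h' : w' ≫ v' = 0 := by
      refine T.map_injective ?_
      rw [T.map_comp, T.map_preimage, T.map_zero]
      have := congrArg (fun g => u.hom ≫ g ≫ u.inv) h
      simpa using this
    have h'' := Groth.Agent.H4DR.PCoh.hm_comp_apply 0 w' v'
    rw [← hw]
    show Groth.Agent.H4DR.PCoh.hm 0 v' (Groth.Agent.H4DR.Ext.evalOne R w') = 0
    unfold Groth.Agent.H4DR.Ext.evalOne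
    erw [← Groth.Agent.H4DR.PCoh.hm_comp_apply 0 w' v', h']
    simp [Groth.Agent.H4DR.PCoh.hm, Functor.map_zero]
  · intro w hw
    let w' : Dual.inD k k ⟶ R := T.preimage (u.hom ≫ w ≫ e.inv)
    have hw' : w' ≠ 0 := fun h => hw (by
      have := congrArg T.map h
      rw [T.map_preimage, T.map_zero] at this
      rwa [← cancel_epi u.hom, ← cancel_mono e.inv, comp_zero, zero_comp, Category.assoc])
    have hm : Groth.Agent.H4DR.Ext.evalOne R w' ≠ 0 := fun h =>
      hw' ((Groth.Agent.H4DR.Ext.bijective_evalOne R).1 (h.trans (map_zero _).symm))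
    obtain ⟨ψ, hψ⟩ : ∃ ψ : Dual.HD k R 0 →ₗ[k] k, ψ (Groth.Agent.H4DR.Ext.evalOne R w') ≠ 0 := by
      by_contra hcon
      push Not at hcon
      exact hm ((Module.forall_dual_apply_eq_zero_iff k _).1 hcon)
    obtain ⟨v', hv'⟩ := h2.2 (ModuleCat.ofHom ((H4RSH.SerreDual.sEquiv (k := k)).symm.toLinearMap ∘ₗ ψ))
    refine ⟨e.inv ≫ T.map v' ≫ u.hom, fun h => hψ ?_⟩
    have h' : w' ≫ v' = 0 := by
      refine T.map_injective ?_
      rw [T.map_comp, T.map_preimage, T.map_zero]
      have := congrArg (fun g => u.hom ≫ g ≫ u.inv) h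
      simpa using this
    have h'' : Groth.Agent.H4DR.PCoh.hm 0 v' (Groth.Agent.H4DR.Ext.evalOne R w') = 0 := by
      unfold Groth.Agent.H4DR.Ext.evalOne
      erw [← Groth.Agent.H4DR.PCoh.hm_comp_apply 0 w' v', h']
      simp [Groth.Agent.H4DR.PCoh.hm, Functor.map_zero]
    have h3 : (H4RSH.SerreDual.sEquiv (k := k)).symm (ψ (Groth.Agent.H4DR.Ext.evalOne R w')) = 0 :=
      (congr($(hv').hom (Groth.Agent.H4DR.Ext.evalOne R w'))).symm.trans h''
    exact (H4RSH.SerreDual.sEquiv (k := k)).symm.map_eq_zero_iff.1 h3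

variable {X : Scheme.{u}} [X.Over (Spec (.of k))] [DCoh.HasRpush (X ↘ Spec (.of k))]
  {hf : DCoh.RpushPreservesQCoh (X ↘ Spec (.of k))}
  {a : DCoh.DQCoh (Spec (.of k)) ⥤ DCoh.DQCoh X} (adj : DCoh.RpushQ (X ↘ Spec (.of k)) hf ⊣ a)
  (O : DCoh.DQCoh (Spec (.of k))) (eO : O.obj ≅ DCoh.inD (Spec (.of k)) (Coh.structureModule (Spec (.of k))))

/-- `Hom(O_X, E) = Hom(O, Rf_*E)`, linearly. -/
def pushLin (E : DCoh.D X) : (Dual.one X ⟶ E) ≃ₗ[k]
    (DCoh.inD (Spec (.of k)) (Coh.structureModule (Spec (.of k))) ⟶ (DCoh.Rpush (X ↘ Spec (.of k))).obj E) :=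
  haveI := hasLpull (X ↘ Spec (.of k))
  haveI : (DCoh.Rpush (X ↘ Spec (.of k))).Additive := Groth.Agent.H4RSH.SerreDual.additive_rpush
  (Linear.homCongr k ((unitPull (X ↘ Spec (.of k))) ≪≫ Dual.oneIso).symm (Iso.refl E)).trans
    (PnDetect.adjLinEquiv (lpullRpushAdj _) _
      (PnDetect.lpull_map_smul_inD (X ↘ Spec (.of k)) (by rw [over_self]; exact Category.comp_id _)
        (H8Props.RelPC.isFinLocFree_structure _)) E)

theorem pushLin_comp {E E' : DCoh.D X} (z : Dual.one X ⟶ E) (u : E ⟶ E') :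
    pushLin (k := k) E' (z ≫ u) = pushLin (k := k) E z ≫ (DCoh.Rpush (X ↘ Spec (.of k))).map u := by
  haveI := hasLpull (X ↘ Spec (.of k))
  simp only [pushLin, PnDetect.adjLinEquiv, LinearEquiv.trans_apply, Linear.homCongr_apply, Iso.refl_hom,
    Category.comp_id]
  change (lpullRpushAdj _).homEquiv _ _ _ = (lpullRpushAdj _).homEquiv _ _ _ ≫ _
  rw [← Category.assoc, Adjunction.homEquiv_naturality_right]

/-- The trace `Hom(O_X, a(O)) → k`. -/
def tr : (Dual.one X ⟶ (a.obj O).obj) →ₗ[k] k :=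
  (scalarEquiv (k := k)).symm.toLinearMap ∘ₗ
    (Linear.rightComp k _ (LeadBrown.homEquivD adj (a.obj O).obj (a.obj O).property O (𝟙 _) ≫ eO.hom)) ∘ₗ
    (pushLin (k := k) (a.obj O).obj).toLinearMap

theorem tr_comp {E : DCoh.D X} (hE : DCoh.IsQCohD E) (y : Dual.one X ⟶ E) (x : E ⟶ (a.obj O).obj) :
    scalarEquiv (k := k) (tr adj O eO (y ≫ x)) =
      pushLin (k := k) E y ≫ LeadBrown.homEquivD adj E hE O x ≫ eO.hom := by
  simp only [tr, LinearMap.comp_apply, LinearEquiv.coe_coe, LinearEquiv.apply_symm_apply, Linear.rightComp_apply]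
  rw [pushLin_comp, Category.assoc, ← Category.assoc ((DCoh.Rpush _).map x),
    ← LeadBrown.homEquivD_comp adj (a.obj O).property hE x O (𝟙 _), Category.comp_id]

/-- The trace pairing is nondegenerate on quasi-coherent objects. -/
theorem exists_tr_ne_zero {E : DCoh.D X} (hE : DCoh.IsQCohD E) :
    (∀ x : E ⟶ (a.obj O).obj, x ≠ 0 → ∃ y : Dual.one X ⟶ E, tr adj O eO (y ≫ x) ≠ 0) ∧
    (∀ y : Dual.one X ⟶ E, y ≠ 0 → ∃ x : E ⟶ (a.obj O).obj, tr adj O eO (y ≫ x) ≠ 0) := by
  haveI := hasLpull (X ↘ Spec (.of k))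
  haveI : (DCoh.Rpush (X ↘ Spec (.of k))).Additive := Groth.Agent.H4RSH.SerreDual.additive_rpush
  let hD := LeadBrown.homEquivD adj E hE O
  have hD0 : hD 0 = 0 := by
    have h := LeadBrown.homEquivD_add adj hE O 0 0
    rwa [add_zero, left_eq_add] at h
  obtain ⟨h₁, h₂⟩ := exists_pair_ne_zero (hf E hE)
  constructor
  · intro x hx
    obtain ⟨w, hw⟩ := h₁ (hD x ≫ eO.hom) fun h => hx (hD.injective (by
      rw [← cancel_mono eO.hom, hD0, zero_comp]; exact h))
    refine ⟨(pushLin (k := k) E).symm w, fun h => hw ?_⟩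
    have := tr_comp adj O eO hE ((pushLin (k := k) E).symm w) x
    rw [h, map_zero, LinearEquiv.apply_symm_apply] at this
    exact this.symm
  · intro y hy
    obtain ⟨v, hv⟩ := h₂ (pushLin (k := k) E y) fun h => hy ((pushLin (k := k) E).map_eq_zero_iff.1 h)
    refine ⟨hD.symm (v ≫ eO.inv), fun h => hv ?_⟩
    have := tr_comp adj O eO hE y (hD.symm (v ≫ eO.inv))
    rw [h, map_zero, Equiv.apply_symm_apply, Category.assoc, Iso.inv_hom_id, Category.comp_id] at this
    exact this.symm

end Groth.Agent.H02CA.SerreGor
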